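import Cfsg.Agent.H6.Chain

set_option autoImplicit false
set_option maxRecDepth 100000
set_option Elab.async false

namespace Cfsg.H6.HeL

noncomputable def get (y : ℕ) : ℕ := (sel (nat_lit 1) y (nat_lit 0x3f552451333f4f373254343653344e343152233351334c3630503c4c4f3c334b4e300c353b4d324a4c353a303a3a313a4b4a393939394a30492f48424748424037471c412f37413f2e461b3e452f443d443a353b35432e352d423e2f413e2f3e2c401a3d3f3d3c2f3e2c2d2e322d3b2d3d2e192c312c3a2e3c3b303a30302c392b38113437363433363110322e2b3531342b322b2d322b3233320f312c31302b2f2d082d2b2e2d2c2a2a8c2a262a2a282929512923292925282881222028282a271f7b271f2727211e267a262a1f26202525451d1b252529241a3f241a24241c19233d23291a231b22222228172222222116681816211c2715206717281620261427621f27261f16261e611e1e141e151d1d1325121d1d1d1c113713111c2124101b361225111b230f24331a24231a1123193119190f1910180e18210e1813180d171720220e17170c214e0e2120111f20154d0d150c151e1f0b4a14141e140c130a1d1c0a13181309120a1b1d0a1212081c2f0a1c1b161a1b102e09100810191a072c0f0f190f0806180e1618170a0e170d0d150d060d0d16053b060c1508140b140b0b0b0b0b050413121113120e0a120904100904090911032b0408100c0f070f0307070707030e02060c060d0406050c05020505030b0a01090804090604030807010303050702060205020201020104000301010201000001000000000000)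 (sel (nat_lit 2) y (nat_lit 0x73657f6a66906c7f897e8e7e7e648f6b8d63647d648e8d6a8862887c8d8864697b8d277b627b63686189267a8c628b678b797979797961796b6791728a60728964888d77888988606960697460695d8884755c855f5c75845b707476705b5e747f5a73825b875c738059727886707872718671815971817166747060747257705f6f5e5f85566f85856e528484556e5f5553425c548582565c51845552847f5c786b83806b50807e824f507f5083557d764e765b8276547c6882215a4e68537b4d782059814e597a704c66507f805266657f654f4c655165774b7d647d7e7c50637d63634b637b4f4a7c1f627b7a4b4e7a611e61614a794d50768270767848776f5f466f75475f6e46576f5d575474575448475e484676586c45756d4675736c74445b697374465b5a735a68445a455a4372596771446759424955494952495d525e85485e42705e47415447426f476d6d3f586c406e6a475d3e56466d5e6942536d41453e536841573d6e406c586646516c293f3d516545603c6a666a6b40644f6a4f653c4f3f633b69164468673e62674d15434d3b43613a664c3c654c3d4c39644b4b634b623c6239144a4a61393b3858405858405848405d38575d38604956375d56385f56555e365f545c5d5b52455c255336455a51355b444e5a5936445943434d43354d4358346d38565738544156533734413753483349525549503800)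 (nat_lit 0x9a9a9a9a9a989a9a999994999794999598969898939a94988e978997998d9791969896968b968c9695958a92918a9599948c99948999988a8f8b9393988f89939292929587869292839178879582919787909083907f9090938f8f8f8f937e8f978e7e8e8e7d8e837d7b778d7c977d828c942a8c7a8c968179938b8b968b7a8b8a819586789586947e7a9789947793787c777c88777c777690878791927387878671868a72928a866e8557756f6d856f75846c6e6e6c847591836b90836a838e6a68607369916d8d818a28716781718c7280806b80666b8000)))

noncomputable def row (p : ℕ) : ℕ :=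
  Nat.land (Nat.shiftRight (@Nat.rec (fun _ => ℕ) (nat_lit 0) (fun y _ => get y)
    (Nat.add (Nat.shiftRight p (nat_lit 6)) (nat_lit 1)))
    (Nat.mul (Nat.land p (nat_lit 63)) (nat_lit 64))) (nat_lit 4722366482869645213695)

noncomputable def img (x p : ℕ) : ℕ :=
  Nat.land (Nat.shiftRight (row p) (Nat.mul x (nat_lit 8))) (nat_lit 255)

def LS : List ℕ := [nat_lit 1, nat_lit 2, nat_lit 3, nat_lit 4, nat_lit 5, nat_lit 6, nat_lit 7, nat_lit 8]

def EQS : List (List ℕ × List ℕ) := [([nat_lit 1, nat_lit 1], []), ([nat_lit 2, nat_lit 2], []), ([nat_lit 3, nat_lit 3], []), ([nat_lit 4, nat_lit 4], []), ([nat_lit 5, nat_lit 5], []), ([nat_lit 6, nat_lit 6], []), ([nat_lit 7, nat_lit 7], []), ([nat_lit 8, nat_lit 8], []), ([nat_lit 1, nat_lit 3], [nat_lit 3, nat_lit 1]), ([nat_lit 1, nat_lit 4], [nat_lit 4, nat_lit 1]), ([nat_lit 2, nat_lit 4], [nat_lit 4, nat_lit 2]), ([nat_lit 1, nat_lit 2, nat_lit 1, nat_lit 2], [nat_lit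 2, nat_lit 1, nat_lit 2, nat_lit 1]), ([nat_lit 2, nat_lit 3, nat_lit 2, nat_lit 3], [nat_lit 3, nat_lit 2, nat_lit 3, nat_lit 2]), ([nat_lit 3, nat_lit 4, nat_lit 3, nat_lit 4], [nat_lit 4, nat_lit 3, nat_lit 4, nat_lit 3]), ([nat_lit 1, nat_lit 2, nat_lit 1, nat_lit 3, nat_lit 2, nat_lit 1], [nat_lit 3, nat_lit 2, nat_lit 3, nat_lit 1, nat_lit 2, nat_lit 3]), ([nat_lit 2, nat_lit 3, nat_lit 2, nat_lit 4, nat_lit 3, nat_lit 2], [nat_lit 4, nat_lit 3, nat_lit 4, nat_lit 2, nat_lit 3, nat_lit 4]), ([nat_lit 1, nat_lit 7], [nat_lit 7, nat_lit 1]), ([nat_lit 4, nat_lit 6], [nat_lit 6, nat_lit 4]), ([nat_lit 2, nat_lit 6, nat_lit 2], [nat_lit 6, nat_lit 2, nat_lit 6]), ([nat_lit 3, nat_lit 7, nat_lit 3], [nat_lit 7, nat_lit 3, nat_lit 7]), ([nat_lit 6, nat_lit 7, nat_lit 6, nat_lit 7], [nat_lit 7, nat_lit 6, nat_lit 7, nat_lit 6]), ([nat_lit 1, nat_lit 2, nat_lit 1, nat_lit 2, nat_lit 6], [nat_lit 6, nat_lit 2, nat_lit 1,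 nat_lit 2]), ([nat_lit 2, nat_lit 3, nat_lit 2, nat_lit 3, nat_lit 6], [nat_lit 6, nat_lit 2, nat_lit 3, nat_lit 2]), ([nat_lit 2, nat_lit 3, nat_lit 2, nat_lit 3, nat_lit 7], [nat_lit 7, nat_lit 3, nat_lit 2, nat_lit 3]), ([nat_lit 3, nat_lit 4, nat_lit 3, nat_lit 4, nat_lit 7], [nat_lit 7, nat_lit 3, nat_lit 4, nat_lit 3]), ([nat_lit 1, nat_lit 8], [nat_lit 8, nat_lit 1]), ([nat_lit 2, nat_lit 8], [nat_lit 8, nat_lit 2]), ([nat_lit 3, nat_lit 5], [nat_lit 5, nat_lit 3]), ([nat_lit 4, nat_lit 5], [nat_lit 5, nat_lit 4]), ([nat_lit 5, nat_lit 7], [nat_lit 7, nat_lit 5]), ([nat_lit 5, nat_lit 8], [nat_lit 8, nat_lit 5]), ([nat_lit 1, nat_lit 5, nat_lit 1], [nat_lit 5, nat_lit 1, nat_lit 5]), ([nat_lit 4, nat_lit 8, nat_lit 4], [nat_lit 8, nat_lit 4, nat_lit 8]), ([nat_lit 7, nat_lit 8, nat_lit 7, nat_lit 8], [nat_lit 8, nat_lit 7, nat_lit 8, nat_lit 7]), ([nat_lit 1, nat_lit 2, nat_lit 1, nat_lit 2, nat_lit 5], [nat_lit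 5, nat_lit 1, nat_lit 2, nat_lit 1]), ([nat_lit 3, nat_lit 4, nat_lit 3, nat_lit 4, nat_lit 8], [nat_lit 8, nat_lit 4, nat_lit 3, nat_lit 4]), ([nat_lit 6, nat_lit 8], [nat_lit 8, nat_lit 6]), ([nat_lit 5, nat_lit 6, nat_lit 5, nat_lit 6], [nat_lit 6, nat_lit 5, nat_lit 6, nat_lit 5])]

def D : List (ℕ × List ℕ) := []

noncomputable def ptU (img : ℕ → ℕ → ℕ) (p : ℕ) : Bool := Nat.beq (Nat.lor (Nat.xor (img (nat_lit 1) (img (nat_lit 1) p)) p)
  (Nat.lor (Nat.xor (img (nat_lit 2) (img (nat_lit 2) p)) p)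
  (Nat.lor (Nat.xor (img (nat_lit 3) (img (nat_lit 3) p)) p)
  (Nat.lor (Nat.xor (img (nat_lit 4) (img (nat_lit 4) p)) p)
  (Nat.lor (Nat.xor (img (nat_lit 5) (img (nat_lit 5) p)) p)
  (Nat.lor (Nat.xor (img (nat_lit 6) (img (nat_lit 6) p)) p)
  (Nat.lor (Nat.xor (img (nat_lit 7) (img (nat_lit 7) p)) p)
  (Nat.lor (Nat.xor (img (nat_lit 8) (img (nat_lit 8) p)) p)
  (Nat.lor (Nat.xor (img (nat_lit 3) (img (nat_lit 1) p)) (img (nat_lit 1) (img (nat_lit 3) p)))
  (Nat.lor (Nat.xor (img (nat_lit 4) (img (nat_lit 1) p)) (img (nat_lit 1) (img (nat_lit 4) p)))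
  (Nat.lor (Nat.xor (img (nat_lit 4) (img (nat_lit 2) p)) (img (nat_lit 2) (img (nat_lit 4) p)))
  (Nat.lor (Nat.xor (img (nat_lit 2) (img (nat_lit 1) (img (nat_lit 2) (img (nat_lit 1) p)))) (img (nat_lit 1) (img (nat_lit 2) (img (nat_lit 1) (img (nat_lit 2) p)))))
  (Nat.lor (Nat.xor (img (nat_lit 3) (img (nat_lit 2) (img (nat_lit 3) (img (nat_lit 2) p)))) (img (nat_lit 2) (img (nat_lit 3) (img (nat_lit 2) (img (nat_lit 3) p)))))
  (Nat.lor (Nat.xor (img (nat_lit 4) (img (nat_lit 3) (img (nat_lit 4) (img (nat_lit 3) p)))) (img (nat_lit 3) (img (nat_lit 4) (img (nat_lit 3) (img (nat_lit 4) p)))))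
  (Nat.lor (Nat.xor (img (nat_lit 1) (img (nat_lit 2) (img (nat_lit 3) (img (nat_lit 1) (img (nat_lit 2) (img (nat_lit 1) p)))))) (img (nat_lit 3) (img (nat_lit 2) (img (nat_lit 1) (img (nat_lit 3) (img (nat_lit 2) (img (nat_lit 3) p)))))))
  (Nat.lor (Nat.xor (img (nat_lit 2) (img (nat_lit 3) (img (nat_lit 4) (img (nat_lit 2) (img (nat_lit 3) (img (nat_lit 2) p)))))) (img (nat_lit 4) (img (nat_lit 3) (img (nat_lit 2) (img (nat_lit 4) (img (nat_lit 3) (img (nat_lit 4) p)))))))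
  (Nat.lor (Nat.xor (img (nat_lit 7) (img (nat_lit 1) p)) (img (nat_lit 1) (img (nat_lit 7) p)))
  (Nat.lor (Nat.xor (img (nat_lit 6) (img (nat_lit 4) p)) (img (nat_lit 4) (img (nat_lit 6) p)))
  (Nat.lor (Nat.xor (img (nat_lit 2) (img (nat_lit 6) (img (nat_lit 2) p))) (img (nat_lit 6) (img (nat_lit 2) (img (nat_lit 6) p))))
  (Nat.lor (Nat.xor (img (nat_lit 3) (img (nat_lit 7) (img (nat_lit 3) p))) (img (nat_lit 7) (img (nat_lit 3) (img (nat_lit 7) p))))
  (Nat.lor (Nat.xor (img (nat_lit 7) (img (nat_lit 6) (img (nat_lit 7) (img (nat_lit 6) p)))) (img (nat_lit 6) (img (nat_lit 7) (img (nat_lit 6) (img (nat_lit 7) p)))))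
  (Nat.lor (Nat.xor (img (nat_lit 6) (img (nat_lit 2) (img (nat_lit 1) (img (nat_lit 2) (img (nat_lit 1) p))))) (img (nat_lit 2) (img (nat_lit 1) (img (nat_lit 2) (img (nat_lit 6) p)))))
  (Nat.lor (Nat.xor (img (nat_lit 6) (img (nat_lit 3) (img (nat_lit 2) (img (nat_lit 3) (img (nat_lit 2) p))))) (img (nat_lit 2) (img (nat_lit 3) (img (nat_lit 2) (img (nat_lit 6) p)))))
  (Nat.lor (Nat.xor (img (nat_lit 7) (img (nat_lit 3) (img (nat_lit 2) (img (nat_lit 3) (img (nat_lit 2) p))))) (img (nat_lit 3) (img (nat_lit 2) (img (nat_lit 3) (img (nat_lit 7) p)))))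
  (Nat.lor (Nat.xor (img (nat_lit 7) (img (nat_lit 4) (img (nat_lit 3) (img (nat_lit 4) (img (nat_lit 3) p))))) (img (nat_lit 3) (img (nat_lit 4) (img (nat_lit 3) (img (nat_lit 7) p)))))
  (Nat.lor (Nat.xor (img (nat_lit 8) (img (nat_lit 1) p)) (img (nat_lit 1) (img (nat_lit 8) p)))
  (Nat.lor (Nat.xor (img (nat_lit 8) (img (nat_lit 2) p)) (img (nat_lit 2) (img (nat_lit 8) p)))
  (Nat.lor (Nat.xor (img (nat_lit 5) (img (nat_lit 3) p)) (img (nat_lit 3) (img (nat_lit 5) p)))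
  (Nat.lor (Nat.xor (img (nat_lit 5) (img (nat_lit 4) p)) (img (nat_lit 4) (img (nat_lit 5) p)))
  (Nat.lor (Nat.xor (img (nat_lit 7) (img (nat_lit 5) p)) (img (nat_lit 5) (img (nat_lit 7) p)))
  (Nat.lor (Nat.xor (img (nat_lit 8) (img (nat_lit 5) p)) (img (nat_lit 5) (img (nat_lit 8) p)))
  (Nat.lor (Nat.xor (img (nat_lit 1) (img (nat_lit 5) (img (nat_lit 1) p))) (img (nat_lit 5) (img (nat_lit 1) (img (nat_lit 5) p))))
  (Nat.lor (Nat.xor (img (nat_lit 4) (img (nat_lit 8) (img (nat_lit 4) p))) (img (nat_lit 8) (img (nat_lit 4) (img (nat_lit 8) p))))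
  (Nat.lor (Nat.xor (img (nat_lit 8) (img (nat_lit 7) (img (nat_lit 8) (img (nat_lit 7) p)))) (img (nat_lit 7) (img (nat_lit 8) (img (nat_lit 7) (img (nat_lit 8) p)))))
  (Nat.lor (Nat.xor (img (nat_lit 5) (img (nat_lit 2) (img (nat_lit 1) (img (nat_lit 2) (img (nat_lit 1) p))))) (img (nat_lit 1) (img (nat_lit 2) (img (nat_lit 1) (img (nat_lit 5) p)))))
  (Nat.lor (Nat.xor (img (nat_lit 8) (img (nat_lit 4) (img (nat_lit 3) (img (nat_lit 4) (img (nat_lit 3) p))))) (img (nat_lit 4) (img (nat_lit 3) (img (nat_lit 4) (img (nat_lit 8) p)))))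
  (Nat.lor (Nat.xor (img (nat_lit 8) (img (nat_lit 6) p)) (img (nat_lit 6) (img (nat_lit 8) p)))
  (Nat.lor (Nat.xor (img (nat_lit 6) (img (nat_lit 5) (img (nat_lit 6) (img (nat_lit 5) p)))) (img (nat_lit 5) (img (nat_lit 6) (img (nat_lit 5) (img (nat_lit 6) p)))))
  (Nat.lor (Nat.div (img (nat_lit 1) p) (nat_lit 155)) (Nat.lor (Nat.div (img (nat_lit 2) p) (nat_lit 155)) (Nat.lor (Nat.div (img (nat_lit 3) p) (nat_lit 155)) (Nat.lor (Nat.div (img (nat_lit 4) p) (nat_lit 155)) (Nat.lor (Nat.div (img (nat_lit 5) p) (nat_lit 155)) (Nat.lor (Nat.div (img (nat_lit 6) p) (nat_lit 155)) (Nat.lor (Nat.div (img (nat_lit 7) p) (nat_lit 155)) (Nat.lor (Nat.div (img (nat_lit 8) p) (nat_lit 155)) (nat_lit 0))))))))))))))))))))))))))))))))))))))))))))))) (nat_lit 0)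

theorem ptU_eq (img : ℕ → ℕ → ℕ) (p : ℕ) : ptU img p = chkPt img (nat_lit 155) LS EQS p := rfl

def Ws : List (List ℕ) := [[nat_lit 1], [nat_lit 2], [nat_lit 3], [nat_lit 4], [nat_lit 5], [nat_lit 7], [nat_lit 8]]

end Cfsg.H6.HeL
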